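import Cfsg.Agent.Lib.SporRecognition.CosetCert.Chain
import Cfsg.Prelude.Def_Spor_Fi22

/-! Generated coset-enumeration certificate: Fi22 over <b, c, d, e, f, g>, 288 cosets. -/

set_option autoImplicit false
set_option maxRecDepth 20000
set_option linter.all false
set_option Elab.async false

namespace CfsgLib.SporRecognition.Cert.Fi22Sp288

open CfsgLib.SporRecognition.CosetCert

def T1Lit : Nat := 0x8fc7a3b1c8dc220503823f1f6fa7f3f6231079c3a1b0c7742a131a7541a0b178c465cce57244e25168ac51bede6eb81eaf487b61aef077c2da4ec75c1d9ccd73c0600ff64b218ef67cbe1eec361369b2f278af176ba69bb56eb667ba5d0b258b29c6e270ab558c46e36d52c052af944d66ab513e9e68b41389b59b3196974b2b98cc549aa9829047a997e8d45af510a05cae10ab55a2090298582bcfc94559ed22a8539e54877519cd12a1382193a6d41a69326b3fa54d07c491e91c6546184ea7445174e2872d1b9086c4015cd27d33998f05127948ec602f978e4492d9bcb25835158aa5421188c840319049a4c25928b848239188a441a94c9c501a0cc7a3c1d8e872381b8d8863f1f0a45027178b85a2c158a864311807c3c1d1188842201309448170b05432180e06c3410078382214098481409058341806038200604028080200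
noncomputable def T1 (u : Nat) : Nat := Nat.land (Nat.shiftRight T1Lit (Nat.mul 9 u)) 511
def T2Lit : Nat := 0x85c7a3b0787c3a03007fc0a07047c3de23108dc69e4f18fbb613088e3a5d1148ac5a33188bb89c2e672b91f3138936deaf479c3618d56a3ba14d1683aa0d0565bf1f6fa71bf9fac5623218edc7b3697ed86bb59e0ef5c349d8eb5a3399acc73abd5cde6eb19c0df552b182a76ca917aa05dae972d35bad96acf4ca6162b06532528c255b0d22a8602394abe51a2542bc432793a834da6966b23fa592aad3e249527a47a991a783a229447143a7cdc844e1b102804b9a4fa9333a40f28c31190ea8b2f1c9105b37a14b2822c1a8fc563d998a476299dc9c602f9cc945c38120da6b231a0aa543199482431f9849a4c25974745a1f15c8a44280d0a2322791c7a3c1d92462301b8d85242199007238178b84c25120a86a28138b4582b11870361a0f8783a221088026120b8582a140c860180b078381a110801c1208050100a060100c0200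
noncomputable def T2 (u : Nat) : Nat := Nat.land (Nat.shiftRight T2Lit (Nat.mul 9 u)) 511
def T3Lit : Nat := 0x8847a150d82bfa0f1887c59f3148444a231f8bbc2390c85c75d7138cc1a36f381ba9e4e374469fafc6fbea2af86e3d9ead982405ad0e77bb9daec84c0998ff73b6192cd803558ce07db7986f760b01e8e65e3c5c4b969b496ad067ac9c8e958329cabb56b8556ae6eaa5b6da5fa997ad76427da89d4e2d9a29a59b392ecb4ab118e9362a5184a853af94a8c51a8942a05d21570b7412d10098589f95eaa56248f890479e0eea445a28ea8843a193c7641a6cd6993fa58fa913d998ca8e46a111260399c8be70319b8c26c409a8d2682a9e8f26437988da7438930ba502593c8e582b914ce5429948a25c2d0f89a5e2d8f080392c8dcac38219086649189387a4a168b09044230ac6a28208947e3017888763a1b0803c341389864240c8b8422a0f8a43a1c0a06846180b8402a1b098342216078282408058380c0c038240a04018040400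
noncomputable def T3 (u : Nat) : Nat := Nat.land (Nat.shiftRight T3Lit (Nat.mul 9 u)) 511
def T4Lit : Nat := 0x8747a3b068dc2e01017ebedf8f789c1222f487c7e1b0c8d3b212ee74c71cf1273396311970bfa2f158b375f2f88a3d9b51079bc9e2d977c21a30a67b3a0ecb82c0e04c766389fee06fb79f4dc6dbd5e0d86baf57ed45f2dddab475ba962e37432964c8722c18ac461b0950c06ab4daca252ae942a46926d6ad059b259ac657a612eac492a920c153a9976b851af1728944235089c5b26932ae56a58fa7f3daacf4a947a393c7645a29409f379c4da9d41a09026a4a1a12a6749a44f26430a30ea74399710c5a439650a6c2ba00ac7e3e154a27831938ee4d2f9789272241c0dc46359a4cc4429904ca5027988c03d1d8e8ba5b239608a5421908a4401f8f8982e259285a381b8d86a34198c84c30118f07222108a8521f138c4381b178b056181405c2c251204832200f0741c14098682210078541a0c0582812050380c1002030100200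
noncomputable def T4 (u : Nat) : Nat := Nat.land (Nat.shiftRight T4Lit (Nat.mul 9 u)) 511
def T5Lit : Nat := 0x8547a210e8dc1dfd188bbe22b14813d9eb1d87c71e10c76c7e12ea8d3b20b0481c4dc5007fc65c0de7dbe9f3166dc4a22f479b55e30d69b4a170675c21a2e865321cae471c058afd6fbf184c17bb69b2bb6bb59e4b877bb9d2d059add9ab557b9d92e6562adc2c454b75b8c05faf946bc6c2793ad4672d9989967a712c9565ab926c76324586a853a994aa45ea2d0ea042ae972b240a0168833f2c5607c569f5549047a391a8c511c8e870509b93e6f4c1ad369a34a5d2494341e8f2783b98cc0892ea28b68842218b458411a8fe7b2b198ca533b1889e7525928e65c389b4906c2b99c8a54321488450308fc9a3c2f97892591c918aa36219446840270c45e4c1d8e88e2b1b9106a41140c87c241e88c5a2c1c0a852330e8984a301706442200f8784e130d8684411078582a140e03030100b8241012058181c0d020280a07018080200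
noncomputable def T5 (u : Nat) : Nat := Nat.land (Nat.shiftRight T5Lit (Nat.mul 9 u)) 511
def T6Lit : Nat := 0x8fc46130586c69fefd80be9eefc89c0e3d107943a36ef85bae3b087439e38e6893922ee18cbfa31146ec59b8f88abd9eaf46c43da8f0863b9a0cf853359707834118f026338a00e061b79f6f96db69b2f35d2e5aaf169ad968ed762c5d4b074acd5ac872b8d8aaa6fb0982c05faf9429f5db5dacb84db4934d16525d9ccc4ca5192ac55b1152a853a994aa4452217a865e2793a825bad55e7f5920500ae49a49229047a391a8c39a8ce2a2392810a84362712c954c1acd47c3d9e8f2783b9d8be5e45a1d125d2e1b8da833f1f4b05733998ca6428188c24c3a9d0e06f25124b26934118aa5421948a263201387a601e16cb43a239586e44298d4824f190f89a4b171205838228a88429198fc4a30178ec4439100d8681e13870621a118b4302b0b8a02a260909032210f8383a0d0986c220a07858280c038401208058180a04018080200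
noncomputable def T6 (u : Nat) : Nat := Nat.land (Nat.shiftRight T6Lit (Nat.mul 9 u)) 511
def T7Lit : Nat := 0x8fc26231c86469faff803ddf4fb7b40a3af578c39df1b85c2a3d0883c1a0ae572449c3178c38232dd8a455f2db8b44e20da6bb521ed386bb9daec75ba9d2e873b1e09036b31602fe6fb09f8dc7c3d17cba79b8d70f278349a2d067b399abd65b2978ac732e5c4c461b7982a65236598c94f3618cd55bad946b459a8962a157a813ec84eaa952a8473011abf5aac960ae56aed568b4da293289442590e8642a1122903ca9d4a8c4e26930974aa5126923a1cd0272389c0de6e369e91e783b9d8ea8341200fe7e3e9f0f65e2e970b65a2c950ca6431988c2602f9b0d66a349a0ce4a24920886629948a250279389a4c25960ae561c0e86c552190882401f8c07a3c1d9185647151146a34138c8483e178b842201c8dc521d1986c3431118605a2c0b05450121309422220707c3c140607032100485c1a13058281e08038180a04018080001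
noncomputable def T7 (u : Nat) : Nat := Nat.land (Nat.shiftRight T7Lit (Nat.mul 9 u)) 511

noncomputable def tabs : Cfsg.Spor.Fi22.Gen → Bool → Nat → Nat :=
  fun a b => match a with
  | .a => bif b then (fun u => u) else (fun u => u)
  | .b => bif b then T1 else T1
  | .c => bif b then T2 else T2
  | .d => bif b then T3 else T3
  | .e => bif b then T4 else T4
  | .f => bif b then T5 else T5
  | .g => bif b then T6 else T6
  | .h => bif b then T7 else T7
  | .i => bif b then (fun u => u) else (fun u => u)

def lets : List (Cfsg.Spor.Fi22.Gen × Bool) := [(.b, true), (.c, true), (.d, true), (.e, true), (.f, true), (.g, true), (.h, true)]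
def invols : List Cfsg.Spor.Fi22.Gen := [.a, .b, .c, .d, .e, .f, .g, .h, .i]
def pairs : List (Cfsg.Spor.Fi22.Gen × Cfsg.Spor.Fi22.Gen) := [(.a, .a), (.a, .b), (.a, .c), (.a, .d), (.a, .e), (.a, .f), (.a, .g), (.a, .h), (.a, .i), (.b, .b), (.b, .c), (.b, .d), (.b, .e), (.b, .f), (.b, .g), (.b, .h), (.b, .i), (.c, .c), (.c, .d), (.c, .e), (.c, .f), (.c, .g), (.c, .h), (.c, .i), (.d, .d), (.d, .e), (.d, .f), (.d, .g), (.d, .h), (.d, .i), (.e, .e), (.e, .f), (.e, .g), (.e, .h), (.e, .i), (.f, .f), (.f, .g), (.f, .h), (.f, .i), (.g, .g), (.g, .h), (.g, .i), (.h, .h), (.h, .i), (.i, .i)]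
def extraW : List (List (Cfsg.Spor.Fi22.Gen × Bool)) := [
  [(.d, true), (.c, true), (.b, true), (.d, true), (.e, true), (.f, true), (.d, true), (.h, true), (.i, true), (.d, true), (.c, true), (.b, true), (.d, true), (.e, true), (.f, true), (.d, true), (.h, true), (.i, true), (.d, true), (.c, true), (.b, true), (.d, true), (.e, true), (.f, true), (.d, true), (.h, true), (.i, true), (.d, true), (.c, true), (.b, true), (.d, true), (.e, true), (.f, true), (.d, true), (.h, true), (.i, true), (.d, true), (.c, true), (.b, true), (.d, true), (.e, true), (.f, true), (.d, true), (.h, true), (.i, true), (.d, true), (.c, true), (.b, true), (.d, true), (.e, true), (.f, true), (.d, true), (.h, true), (.i, true), (.d, true), (.c, true), (.b, true), (.d, true), (.e, true), (.f, true), (.d, true), (.h, true), (.i, true), (.d, true), (.c, true), (.b, true), (.d, true), (.e, true), (.f, true), (.d, true), (.h, true), (.i, true), (.d, true), (.c, true), (.b, true), (.d, true), (.e, true), (.f, true), (.d, true), (.h, true), (.i, true), (.d, true), (.c, true), (.b, true), (.d,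 true), (.e, true), (.f, true), (.d, true), (.h, true), (.i, true)],
  [(.a, true), (.b, true), (.c, true), (.d, true), (.e, true), (.f, true), (.h, true), (.a, true), (.b, true), (.c, true), (.d, true), (.e, true), (.f, true), (.h, true), (.a, true), (.b, true), (.c, true), (.d, true), (.e, true), (.f, true), (.h, true), (.a, true), (.b, true), (.c, true), (.d, true), (.e, true), (.f, true), (.h, true), (.a, true), (.b, true), (.c, true), (.d, true), (.e, true), (.f, true), (.h, true), (.a, true), (.b, true), (.c, true), (.d, true), (.e, true), (.f, true), (.h, true), (.a, true), (.b, true), (.c, true), (.d, true), (.e, true), (.f, true), (.h, true), (.a, true), (.b, true), (.c, true), (.d, true), (.e, true), (.f, true), (.h, true), (.a, true), (.b, true), (.c, true), (.d, true), (.e, true), (.f, true), (.h, true)],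
  [(.b, true), (.c, true), (.d, true), (.e, true), (.f, true), (.g, true), (.h, true), (.b, true), (.c, true), (.d, true), (.e, true), (.f, true), (.g, true), (.h, true), (.b, true), (.c, true), (.d, true), (.e, true), (.f, true), (.g, true), (.h, true), (.b, true), (.c, true), (.d, true), (.e, true), (.f, true), (.g, true), (.h, true), (.b, true), (.c, true), (.d, true), (.e, true), (.f, true), (.g, true), (.h, true), (.b, true), (.c, true), (.d, true), (.e, true), (.f, true), (.g, true), (.h, true), (.b, true), (.c, true), (.d, true), (.e, true), (.f, true), (.g, true), (.h, true), (.b, true), (.c, true), (.d, true), (.e, true), (.f, true), (.g, true), (.h, true), (.b, true), (.c, true), (.d, true), (.e, true), (.f, true), (.g, true), (.h, true)]]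
def relW : List (List (Cfsg.Spor.Fi22.Gen × Bool)) := [
  [(.a, true), (.a, true)],
  [(.a, true), (.b, true), (.a, true), (.b, true), (.a, true), (.b, true)],
  [(.a, true), (.c, true), (.a, true), (.c, true)],
  [(.a, true), (.d, true), (.a, true), (.d, true)],
  [(.a, true), (.e, true), (.a, true), (.e, true)],
  [(.a, true), (.f, true), (.a, true), (.f, true)],
  [(.a, true), (.g, true), (.a, true), (.g, true)],
  [(.a, true), (.h, true), (.a, true), (.h, true)],
  [(.a, true), (.i, true), (.a, true), (.i, true)],
  [(.b, true), (.b, true)],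
  [(.b, true), (.c, true), (.b, true), (.c, true), (.b, true), (.c, true)],
  [(.b, true), (.d, true), (.b, true), (.d, true)],
  [(.b, true), (.e, true), (.b, true), (.e, true)],
  [(.b, true), (.f, true), (.b, true), (.f, true)],
  [(.b, true), (.g, true), (.b, true), (.g, true)],
  [(.b, true), (.h, true), (.b, true), (.h, true)],
  [(.b, true), (.i, true), (.b, true), (.i, true)],
  [(.c, true), (.c, true)],
  [(.c, true), (.d, true), (.c, true), (.d, true), (.c, true), (.d, true)],
  [(.c, true), (.e, true), (.c, true), (.e, true)],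
  [(.c, true), (.f, true), (.c, true), (.f, true)],
  [(.c, true), (.g, true), (.c, true), (.g, true)],
  [(.c, true), (.h, true), (.c, true), (.h, true)],
  [(.c, true), (.i, true), (.c, true), (.i, true)],
  [(.d, true), (.d, true)],
  [(.d, true), (.e, true), (.d, true), (.e, true), (.d, true), (.e, true)],
  [(.d, true), (.f, true), (.d, true), (.f, true)],
  [(.d, true), (.g, true), (.d, true), (.g, true)],
  [(.d, true), (.h, true), (.d, true), (.h, true), (.d, true), (.h, true)],
  [(.d, true), (.i, true), (.d, true), (.i, true)],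
  [(.e, true), (.e, true)],
  [(.e, true), (.f, true), (.e, true), (.f, true), (.e, true), (.f, true)],
  [(.e, true), (.g, true), (.e, true), (.g, true)],
  [(.e, true), (.h, true), (.e, true), (.h, true)],
  [(.e, true), (.i, true), (.e, true), (.i, true)],
  [(.f, true), (.f, true)],
  [(.f, true), (.g, true), (.f, true), (.g, true), (.f, true), (.g, true)],
  [(.f, true), (.h, true), (.f, true), (.h, true)],
  [(.f, true), (.i, true), (.f, true), (.i, true)],
  [(.g, true), (.g, true)],
  [(.g, true), (.h, true), (.g, true), (.h, true)],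
  [(.g, true), (.i, true), (.g, true), (.i, true)],
  [(.h, true), (.h, true)],
  [(.h, true), (.i, true), (.h, true), (.i, true), (.h, true), (.i, true)],
  [(.i, true), (.i, true)],
  [(.d, true), (.c, true), (.b, true), (.d, true), (.e, true), (.f, true), (.d, true), (.h, true), (.i, true), (.d, true), (.c, true), (.b, true), (.d, true), (.e, true), (.f, true), (.d, true), (.h, true), (.i, true), (.d, true), (.c, true), (.b, true), (.d, true), (.e, true), (.f, true), (.d, true), (.h, true), (.i, true), (.d, true), (.c, true), (.b, true), (.d, true), (.e, true), (.f, true), (.d, true), (.h, true), (.i, true), (.d, true), (.c, true), (.b, true), (.d, true), (.e, true), (.f, true), (.d, true), (.h, true), (.i, true), (.d, true), (.c, true), (.b, true), (.d, true), (.e, true), (.f, true), (.d, true), (.h, true), (.i, true), (.d, true), (.c, true), (.b, true), (.d, true), (.e, true), (.f, true), (.d, true), (.h, true), (.i, true), (.d, true), (.c, true), (.b, true), (.d, true), (.e, true), (.f, true), (.d, true), (.h, true), (.i, true), (.d, true), (.c, true),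 (.b, true), (.d, true), (.e, true), (.f, true), (.d, true), (.h, true), (.i, true), (.d, true), (.c, true), (.b, true), (.d, true), (.e, true), (.f, true), (.d, true), (.h, true), (.i, true)],
  [(.a, true), (.b, true), (.c, true), (.d, true), (.e, true), (.f, true), (.h, true), (.a, true), (.b, true), (.c, true), (.d, true), (.e, true), (.f, true), (.h, true), (.a, true), (.b, true), (.c, true), (.d, true), (.e, true), (.f, true), (.h, true), (.a, true), (.b, true), (.c, true), (.d, true), (.e, true), (.f, true), (.h, true), (.a, true), (.b, true), (.c, true), (.d, true), (.e, true), (.f, true), (.h, true), (.a, true), (.b, true), (.c, true), (.d, true), (.e, true), (.f, true), (.h, true), (.a, true), (.b, true), (.c, true), (.d, true), (.e, true), (.f, true), (.h, true), (.a, true), (.b, true), (.c, true), (.d, true), (.e, true), (.f, true), (.h, true), (.a, true), (.b, true), (.c, true), (.d, true), (.e, true), (.f, true), (.h, true)],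
  [(.b, true), (.c, true), (.d, true), (.e, true), (.f, true), (.g, true), (.h, true), (.b, true), (.c, true), (.d, true), (.e, true), (.f, true), (.g, true), (.h, true), (.b, true), (.c, true), (.d, true), (.e, true), (.f, true), (.g, true), (.h, true), (.b, true), (.c, true), (.d, true), (.e, true), (.f, true), (.g, true), (.h, true), (.b, true), (.c, true), (.d, true), (.e, true), (.f, true), (.g, true), (.h, true), (.b, true), (.c, true), (.d, true), (.e, true), (.f, true), (.g, true), (.h, true), (.b, true), (.c, true), (.d, true), (.e, true), (.f, true), (.g, true), (.h, true), (.b, true), (.c, true), (.d, true), (.e, true), (.f, true), (.g, true), (.h, true), (.b, true), (.c, true), (.d, true), (.e, true), (.f, true), (.g, true), (.h, true)]]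
def subW : List (List (Cfsg.Spor.Fi22.Gen × Bool)) := [
  [(.b, true)],
  [(.c, true)],
  [(.d, true)],
  [(.e, true)],
  [(.f, true)],
  [(.g, true)]]

end CfsgLib.SporRecognition.Cert.Fi22Sp288
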